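import Cfsg.Agent.H88.Deg2
import Cfsg.Agent.H5.ClassFn
import Cfsg.Agent.H5.Central

/-!
# Groups whose average character degree is at most two
-/

set_option autoImplicit false

open Cfsg Cfsg.Agent.H5 Cfsg.Agent.H88

namespace Cfsg.Agent.H27

/-- Average degree at most two, written with truncated subtraction. -/
def Acd (G : Type*) [Group G] [Finite G] : Prop :=
  ∑ χ : IrrCharacter G, (charDegree (χ : G → ℂ) - 2) ≤ (commutator G).index

variable {G : Type*} [Group G] [Finite G]

theorem acd_sum_one :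
    ∑ χ : IrrCharacter G, (if charDegree (χ : G → ℂ) = 1 then 1 else 0) =
      (commutator G).index := by
  classical
  rw [← Finset.card_filter, ← card_monoidHom_eq_index_commutator,
    Nat.card_congr (linearCharEquiv G), ← Fintype.card_subtype, ← Nat.card_eq_fintype_card]
  exact Nat.card_congr (Equiv.subtypeEquivRight fun χ =>
    charDegree_eq_one_iff (isCharacter_of_isIrr χ.2))

theorem acd_card : ∑ _χ : IrrCharacter G, (1 : ℕ) = Nat.card (ConjClasses G) := by
  rw [← card_irrCharacter, Nat.card_eq_fintype_card]; simp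

theorem acd_of_le (h : (∑ᶠ χ : IrrCharacter G, charDegree (χ : G → ℂ)) ≤
    2 * Nat.card (IrrCharacter G)) : Acd G := by
  rw [finsum_eq_sum_of_fintype, card_irrCharacter, ← acd_card] at h
  have key : ∑ χ : IrrCharacter G, charDegree (χ : G → ℂ) +
      ∑ χ : IrrCharacter G, (if charDegree (χ : G → ℂ) = 1 then 1 else 0) =
      2 * ∑ _χ : IrrCharacter G, (1 : ℕ) +
        ∑ χ : IrrCharacter G, (charDegree (χ : G → ℂ) - 2) := by
    rw [Finset.mul_sum, ← Finset.sum_add_distrib, ← Finset.sum_add_distrib]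
    refine Finset.sum_congr rfl fun χ _ => ?_
    have := charDegree_pos χ.2
    split_ifs <;> omega
  rw [acd_sum_one] at key
  unfold Acd
  omega

theorem Acd.struct (h : Acd G) : ∃ u p : ℕ, u ≤ p ^ 2 ∧ p ≤ (commutator G).index ∧
    Nat.card G + 3 * (commutator G).index = u + 4 * p + 4 * Nat.card (ConjClasses G) := by
  refine ⟨∑ χ : IrrCharacter G, (charDegree (χ : G → ℂ) - 2) ^ 2, _,
    Finset.sum_sq_le_sq_sum_of_nonneg (fun _ _ => Nat.zero_le _), h, ?_⟩
  rw [← sum_charDegree_sq, ← acd_sum_one, ← acd_card, Finset.mul_sum, Finset.mul_sum,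
    Finset.mul_sum, ← Finset.sum_add_distrib, ← Finset.sum_add_distrib, ← Finset.sum_add_distrib]
  refine Finset.sum_congr rfl fun χ _ => ?_
  have := charDegree_pos χ.2
  split_ifs with h1
  · rw [h1]; norm_num
  · obtain ⟨d, hd⟩ : ∃ d, charDegree (χ : G → ℂ) = d + 2 := ⟨charDegree (χ : G → ℂ) - 2, by omega⟩
    rw [hd, Nat.add_sub_cancel]; ring

theorem Acd.card_le (h : Acd G) : Nat.card G ≤
    (commutator G).index ^ 2 + (commutator G).index + 4 * Nat.card (ConjClasses G) := by
  obtain ⟨u, p, h1, h2, h3⟩ := h.struct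
  have := Nat.pow_le_pow_left h2 2
  omega

theorem Acd.card_le_of {n k : ℕ} (h : Acd G) (hn : (commutator G).index ≤ n)
    (hk : Nat.card (ConjClasses G) ≤ k) : Nat.card G ≤ n ^ 2 + n + 4 * k := by
  have := h.card_le
  have := Nat.pow_le_pow_left hn 2
  omega

theorem Acd.classes_le_of_odd (h : Acd G) (ho : Odd (Nat.card G)) :
    Nat.card (ConjClasses G) ≤ 2 * (commutator G).index := by
  have key : ∑ _χ : IrrCharacter G, (1 : ℕ) ≤
      ∑ χ : IrrCharacter G, (if charDegree (χ : G → ℂ) = 1 then 1 else 0) +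
        ∑ χ : IrrCharacter G, (charDegree (χ : G → ℂ) - 2) := by
    rw [← Finset.sum_add_distrib]
    refine Finset.sum_le_sum fun χ _ => ?_
    have := charDegree_pos χ.2
    have h2 : charDegree (χ : G → ℂ) ≠ 2 := by
      intro h2
      have := degree_dvd_card χ.2 (irr_charDegree_cast χ).symm
      rw [h2] at this
      exact (Nat.not_even_iff_odd.mpr ho) (even_iff_two_dvd.mpr this)
    split_ifs <;> omega
  rw [acd_card, acd_sum_one] at key
  unfold Acd at h
  omega

/-- A perfect group with average degree at most two has order not divisible by four. -/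
theorem Acd.not_four_dvd (h : Acd G) (hp : commutator G = ⊤) : ¬ 4 ∣ Nat.card G := by
  obtain ⟨u, p, h1, h2, h3⟩ := h.struct
  rw [hp, Subgroup.index_top] at h2 h3
  have : u ≤ 1 := h1.trans (by interval_cases p <;> simp)
  omega

/-- The condition passes to quotients. -/
theorem Acd.of_surjective {X : Type*} [Group X] [Finite X] (h : Acd G) (f : G →* X)
    (hf : Function.Surjective f) : Acd X := by
  classical
  let r : (X →* ℂˣ) →* (G →* ℂˣ) := MonoidHom.compHom' f
  have hr : Function.Injective r := fun a b hab => by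
    ext x
    obtain ⟨g, rfl⟩ := hf x
    exact congrArg Units.val (DFunLike.congr_fun hab g)
  have hfinG : Finite (G →* ℂˣ) :=
    Nat.finite_of_card_ne_zero (by
      rw [card_monoidHom_eq_index_commutator]; exact Subgroup.index_ne_zero_of_finite)
  have hQ := Fintype.ofFinite ((G →* ℂˣ) ⧸ r.range)
  have hcard : (commutator G).index =
      Fintype.card ((G →* ℂˣ) ⧸ r.range) * (commutator X).index := by
    rw [← card_monoidHom_eq_index_commutator, ← card_monoidHom_eq_index_commutator,
      Subgroup.card_eq_card_quotient_mul_card_subgroup r.range, Nat.card_eq_fintype_card,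
      Nat.card_congr (MonoidHom.ofInjective hr).toEquiv]
  let Φ : ((G →* ℂˣ) ⧸ r.range) × IrrCharacter X → IrrCharacter G := fun c =>
    ⟨fun g => ((c.1.out g : ℂˣ) : ℂ) * (c.2 : X → ℂ) (f g),
      isIrrCharacter_monoidHom_mul (isIrrCharacter_comp c.2.2 f hf) _⟩
  have hdeg : ∀ c, charDegree (Φ c : G → ℂ) = charDegree (c.2 : X → ℂ) := fun c =>
    charDegree_congr (by simp [Φ])
  have hinj : Function.Injective Φ := by
    rintro ⟨a, β⟩ ⟨b, γ⟩ hab
    have e : ∀ g, ((a.out g : ℂˣ) : ℂ) * (β : X → ℂ) (f g) =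
        ((b.out g : ℂˣ) : ℂ) * (γ : X → ℂ) (f g) := fun g =>
      congrFun (congrArg Subtype.val hab) g
    have e1 : (β : X → ℂ) 1 = (γ : X → ℂ) 1 := by simpa using e 1
    have hab' : a = b := by
      rw [← a.out_eq, ← b.out_eq, QuotientGroup.eq]
      have hker : f.ker ≤ (a.out⁻¹ * b.out).ker := fun g hg => by
        have h1 := e g
        rw [MonoidHom.mem_ker.mp hg, e1] at h1
        have h2 := mul_right_cancel₀ (degree_ne_zero γ.2) h1
        rw [MonoidHom.mem_ker, MonoidHom.mul_apply, MonoidHom.inv_apply, Units.ext h2,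
          inv_mul_cancel]
      refine ⟨f.liftOfSurjective hf ⟨_, hker⟩, ?_⟩
      ext g
      exact congrArg Units.val (f.liftOfRightInverse_comp_apply _
        (Function.rightInverse_surjInv hf) ⟨_, hker⟩ g)
    subst hab'
    refine Prod.ext rfl (Subtype.ext (funext fun x => ?_))
    obtain ⟨g, rfl⟩ := hf x
    exact mul_left_cancel₀ (Units.ne_zero _) (e g)
  have hle : Fintype.card ((G →* ℂˣ) ⧸ r.range) *
      ∑ β : IrrCharacter X, (charDegree (β : X → ℂ) - 2) ≤
      ∑ χ : IrrCharacter G, (charDegree (χ : G → ℂ) - 2) := by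
    calc _ = ∑ c : ((G →* ℂˣ) ⧸ r.range) × IrrCharacter X,
          (charDegree (Φ c : G → ℂ) - 2) := by
          simp only [hdeg]
          rw [Fintype.sum_prod_type]
          simp
      _ = ∑ χ ∈ Finset.univ.image Φ, (charDegree (χ : G → ℂ) - 2) :=
          (Finset.sum_image (f := fun χ : IrrCharacter G => charDegree (χ : G → ℂ) - 2)
            fun a _ b _ hab => hinj hab).symm
      _ ≤ _ := Finset.sum_le_sum_of_subset (Finset.subset_univ _)
  unfold Acd at h ⊢
  rw [hcard] at h
  exact Nat.le_of_mul_le_mul_left (hle.trans h) Fintype.card_pos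

/-- Every proper subgroup has average degree at most two. -/
def SAcd (G : Type*) [Group G] [Finite G] : Prop := ∀ H : Subgroup G, H ≠ ⊤ → Acd H

theorem SAcd.of_surjective {X : Type*} [Group X] [Finite X] (h : SAcd G) (f : G →* X)
    (hf : Function.Surjective f) : SAcd X := fun K hK => by
  have h1 : K.comap f ≠ ⊤ := fun e => hK (by
    rw [← Subgroup.map_comap_eq_self_of_surjective hf K, e, Subgroup.map_top_of_surjective f hf])
  refine (h _ h1).of_surjective ((f.comp (K.comap f).subtype).codRestrict K fun x => x.2) ?_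
  rintro ⟨k, hk⟩
  obtain ⟨g, rfl⟩ := hf k
  exact ⟨⟨g, hk⟩, rfl⟩

end Cfsg.Agent.H27
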