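import Cfsg.Agent.H27.AcdA
import Cfsg.Agent.H6.FrobGroup
import Cfsg.Agent.S4201

/-!
# Class numbers of Frobenius groups and the average degree condition
-/

set_option autoImplicit false

open Cfsg Subgroup
open scoped commutatorElement

namespace Cfsg.Agent.H27

variable {G : Type*} [Group G] [Finite G]

theorem frobT_classes (W T : Subgroup G) [W.Normal] (hs : W ⊔ T = ⊤)
    (hf : ∀ t ∈ T, t ≠ 1 → ∀ w ∈ W, t * w = w * t → w = 1) :
    Nat.card (ConjClasses G) * Nat.card T + 1 ≤ Nat.card T ^ 2 + Nat.card W := by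
  classical
  have := Fintype.ofFinite G
  let sT := Finset.univ.filter fun g : G => g ∈ T
  let sW := (Finset.univ.filter fun g : G => g ∈ W).erase 1
  have hT : sT.card = Nat.card T := by
    rw [Nat.card_eq_fintype_card, Fintype.card_subtype]
  have hW : sW.card + 1 = Nat.card W := by
    rw [Finset.card_erase_add_one (by simp), Nat.card_eq_fintype_card,
      Fintype.card_subtype]
  have h1 : Nat.card (ConjClasses G) ≤
      (sT.image ConjClasses.mk).card + (sW.image ConjClasses.mk).card := by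
    rw [Nat.card_eq_fintype_card]
    refine le_trans (Finset.card_le_card (t := sT.image ConjClasses.mk ∪
      sW.image ConjClasses.mk) fun c _ => ?_) (Finset.card_union_le _ _)
    obtain ⟨g, rfl⟩ := ConjClasses.mk_surjective c
    rw [Finset.mem_union]
    by_cases hg : g ∈ W
    · by_cases hg1 : g = 1
      · exact Or.inl (Finset.mem_image_of_mem _ (by simp [sT, hg1]))
      · exact Or.inr (Finset.mem_image_of_mem _ (by simp [sW, hg1, hg]))
    · obtain ⟨a, -, h, hh, -, rfl⟩ := H6.exists_conj_mem_complement W T hs hf hg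
      refine Or.inl (Finset.mem_image.2 ⟨h, by simp [sT, hh], ?_⟩)
      exact ConjClasses.mk_eq_mk_iff_isConj.2 (isConj_iff.2 ⟨a⁻¹, by simp⟩)
  have h2 : (sT.image ConjClasses.mk).card ≤ Nat.card T := hT ▸ Finset.card_image_le
  have h3 : Nat.card T * (sW.image ConjClasses.mk).card ≤ sW.card := by
    refine Finset.mul_card_image_le_card sW _ fun c hc => ?_
    obtain ⟨w, hw, rfl⟩ := Finset.mem_image.1 hc
    simp only [sW, Finset.mem_erase, Finset.mem_filter, Finset.mem_univ, true_and] at hw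
    rw [← hT]
    refine Finset.card_le_card_of_injOn (fun t => t * w * t⁻¹) (fun t _ => ?_) ?_
    · simp only [sW, Finset.coe_filter, Finset.mem_erase, Finset.mem_filter, Finset.mem_univ,
        true_and, Set.mem_ofPred_eq]
      exact ⟨⟨by simpa using hw.1, Normal.conj_mem inferInstance _ hw.2 _⟩,
        (ConjClasses.mk_eq_mk_iff_isConj.2 (isConj_iff.2 ⟨t, rfl⟩)).symm⟩
    · intro a ha b hb hab
      simp only [sT, Finset.coe_filter, Finset.mem_univ, true_and, Set.mem_ofPred_eq] at ha hb hab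
      by_contra hne
      refine hw.1 (hf (b⁻¹ * a) (T.mul_mem (T.inv_mem hb) ha)
        (fun e => hne (inv_mul_eq_one.1 e).symm) w hw.2 ?_)
      calc b⁻¹ * a * w = b⁻¹ * (a * w * a⁻¹) * a := by group
        _ = w * (b⁻¹ * a) := by rw [hab]; group
  calc Nat.card (ConjClasses G) * Nat.card T + 1
      ≤ (Nat.card T + (sW.image ConjClasses.mk).card) * Nat.card T + 1 := by gcongr; omega
    _ ≤ _ := by rw [add_mul, sq, mul_comm (Finset.card _)]; omega

theorem frobT_le_commutator (W : Subgroup G) [W.Normal] {t : G}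
    (hf : ∀ w ∈ W, t * w = w * t → w = 1) : W ≤ commutator G := fun k hk => by
  obtain ⟨a, -, ha⟩ := H6.exists_conj_eq_mul_of_fpf W hf hk
  have : k = ⁅a⁻¹, t⁆ := by
    rw [commutatorElement_def, inv_inv, ← ha]; group
  rw [this]
  exact commutator_mem_commutator (mem_top _) (mem_top _)

theorem frobT_mod (W T : Subgroup G) [W.Normal] {s : ℕ} (hs : s.Prime) (hT : Nat.card T = s)
    (hf : ∀ t ∈ T, t ≠ 1 → ∀ w ∈ W, t * w = w * t → w = 1) : Nat.card W % s = 1 := by
  have := Fact.mk hs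
  let _ : MulAction T W := MulAction.compHom W ((MulAut.conjNormal (H := W)).comp T.subtype)
  have h1 := (IsPGroup.of_card (p := s) (n := 1) (G := T) (by simp [hT])).card_modEq_card_fixedPoints W
  have : Nontrivial T := Finite.one_lt_card_iff_nontrivial.1 (hT ▸ hs.one_lt)
  obtain ⟨t, ht⟩ := exists_ne (1 : T)
  have h2 : Nat.card (MulAction.fixedPoints T W) = 1 := by
    rw [Nat.card_eq_one_iff_exists]
    refine ⟨⟨1, fun a => map_one (MulAut.conjNormal (H := W) (a : G))⟩, fun w => ?_⟩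
    have h3 : (t : G) * w * (t : G)⁻¹ = w := congrArg Subtype.val (w.2 t)
    exact Subtype.ext (Subtype.ext (hf t t.2 (fun e => ht (Subtype.ext e)) _ w.1.2
      (mul_inv_eq_iff_eq_mul.1 h3)))
  rw [h2] at h1
  rw [h1, Nat.mod_eq_of_lt hs.one_lt]

omit [Finite G] in
theorem sup_subgroupOf_top (W T : Subgroup G) :
    W.subgroupOf (W ⊔ T) ⊔ T.subgroupOf (W ⊔ T) = ⊤ := by
  rw [← subgroupOf_sup le_sup_left le_sup_right, subgroupOf_self]

omit [Finite G] in
theorem normal_sup_of {W T : Subgroup G} (hn : T ≤ normalizer W) :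
    (W.subgroupOf (W ⊔ T)).Normal :=
  (normal_subgroupOf_iff_le_normalizer le_sup_left).2 (sup_le le_normalizer hn)

omit [Finite G] in
theorem card_subgroupOf_le {W K : Subgroup G} (h : W ≤ K) :
    Nat.card (W.subgroupOf K) = Nat.card W :=
  Nat.card_congr (subgroupOfEquivOfLe h).toEquiv

omit [Finite G] in
theorem compl_sup_of {W T : Subgroup G} (hn : T ≤ normalizer W) (hd : Disjoint W T) :
    IsComplement' (W.subgroupOf (W ⊔ T)) (T.subgroupOf (W ⊔ T)) := by
  have := normal_sup_of hn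
  refine isComplement'_of_disjoint_and_mul_eq_univ ?_ ?_
  · rw [disjoint_def] at hd ⊢
    exact fun hx hx' => Subtype.ext (hd hx hx')
  · rw [← normal_mul, sup_subgroupOf_top]; rfl

omit [Finite G] in
theorem card_sup_of {W T : Subgroup G} (hn : T ≤ normalizer W) (hd : Disjoint W T) :
    Nat.card (W ⊔ T : Subgroup G) = Nat.card W * Nat.card T := by
  rw [← (compl_sup_of hn hd).card_mul_card, card_subgroupOf_le le_sup_left,
    card_subgroupOf_le le_sup_right]

omit [Finite G] in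
theorem index_sup_of {W T : Subgroup G} (hn : T ≤ normalizer W) (hd : Disjoint W T) :
    (W.subgroupOf (W ⊔ T)).index = Nat.card T := by
  rw [(compl_sup_of hn hd).symm.index_eq_card, card_subgroupOf_le le_sup_right]

omit [Finite G] in
theorem disjoint_of_fpf {W T : Subgroup G}
    (hf : ∀ t ∈ T, t ≠ 1 → ∀ w ∈ W, t * w = w * t → w = 1) : Disjoint W T := by
  rw [disjoint_def]
  intro x hx hx'
  by_contra h
  exact h (hf x hx' h x hx rfl)

omit [Finite G] in
theorem fpf_subgroupOf {W T : Subgroup G} (K : Subgroup G)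
    (hf : ∀ t ∈ T, t ≠ 1 → ∀ w ∈ W, t * w = w * t → w = 1) :
    ∀ t ∈ T.subgroupOf K, t ≠ 1 → ∀ w ∈ W.subgroupOf K, t * w = w * t → w = 1 :=
  fun t ht h1 w hw e => Subtype.ext (hf t ht (fun e' => h1 (Subtype.ext e')) w hw
    (congrArg Subtype.val e))

theorem frob_classes {W T : Subgroup G} (hn : T ≤ normalizer W)
    (hf : ∀ t ∈ T, t ≠ 1 → ∀ w ∈ W, t * w = w * t → w = 1) :
    Nat.card (ConjClasses (W ⊔ T : Subgroup G)) * Nat.card T + 1 ≤
      Nat.card T ^ 2 + Nat.card W := by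
  have := normal_sup_of hn
  have h := frobT_classes _ _ (sup_subgroupOf_top W T) (fpf_subgroupOf _ hf)
  rwa [card_subgroupOf_le le_sup_left, card_subgroupOf_le le_sup_right] at h

theorem frob_mod {W T : Subgroup G} (hn : T ≤ normalizer W) {s : ℕ} (hs : s.Prime)
    (hT : Nat.card T = s) (hf : ∀ t ∈ T, t ≠ 1 → ∀ w ∈ W, t * w = w * t → w = 1) :
    Nat.card W % s = 1 := by
  have := normal_sup_of hn
  have h := frobT_mod (W.subgroupOf (W ⊔ T)) (T.subgroupOf (W ⊔ T)) hs
    (by rw [card_subgroupOf_le le_sup_right, hT]) (fpf_subgroupOf _ hf)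
  rwa [card_subgroupOf_le le_sup_left] at h

theorem frob_index {W T : Subgroup G} (hn : T ≤ normalizer W) (hT : T ≠ ⊥)
    (hf : ∀ t ∈ T, t ≠ 1 → ∀ w ∈ W, t * w = w * t → w = 1) :
    (commutator (W ⊔ T : Subgroup G)).index ≤ Nat.card T := by
  have := normal_sup_of hn
  obtain ⟨⟨t, ht⟩, h1⟩ := ne_bot_iff_exists_ne_one.1 hT
  have h := frobT_le_commutator (W.subgroupOf (W ⊔ T)) (t := ⟨t, mem_sup_right ht⟩)
    (fpf_subgroupOf _ hf _ ht fun e => h1 (Subtype.ext (by simpa using e)))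
  rw [← index_sup_of hn (disjoint_of_fpf hf)]
  exact Nat.le_of_dvd (Nat.pos_of_ne_zero index_ne_zero_of_finite) (index_dvd_of_le h)

/-- The basic inequality for a Frobenius group of average degree at most two. -/
theorem frob_ineq {W T : Subgroup G} (hn : T ≤ normalizer W) (hT : T ≠ ⊥)
    (hf : ∀ t ∈ T, t ≠ 1 → ∀ w ∈ W, t * w = w * t → w = 1) (h : Acd (W ⊔ T : Subgroup G)) :
    Nat.card T ^ 2 * Nat.card W + 4 ≤ Nat.card T ^ 3 + 5 * Nat.card T ^ 2 + 4 * Nat.card W := by
  have h1 := h.card_le_of (frob_index hn hT hf) le_rfl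
  have h2 := frob_classes hn hf
  rw [card_sup_of hn (disjoint_of_fpf hf)] at h1
  have h3 := Nat.mul_le_mul_right (Nat.card T) h1
  nlinarith

theorem frob_ineq_odd {W T : Subgroup G} (hn : T ≤ normalizer W) (hT : T ≠ ⊥)
    (hf : ∀ t ∈ T, t ≠ 1 → ∀ w ∈ W, t * w = w * t → w = 1) (h : Acd (W ⊔ T : Subgroup G))
    (ho : Odd (Nat.card W * Nat.card T)) : Nat.card W ≤ Nat.card T + 9 := by
  have h0 := frob_index hn hT hf
  rw [← card_sup_of hn (disjoint_of_fpf hf)] at ho
  have h1 := h.card_le_of h0 ((h.classes_le_of_odd ho).trans (Nat.mul_le_mul_left 2 h0))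
  rw [card_sup_of hn (disjoint_of_fpf hf)] at h1
  have : 0 < Nat.card T := Nat.card_pos
  refine Nat.le_of_mul_le_mul_right ?_ this
  nlinarith

theorem classes_le_card (G : Type*) [Group G] [Finite G] :
    Nat.card (ConjClasses G) ≤ Nat.card G :=
  Nat.card_le_card_of_surjective _ ConjClasses.mk_surjective

theorem frob_num {s n r a : ℕ} (hs : s.Prime) (h2 : s ≠ 2) (hr : r.Prime) (hn : n = r ^ a)
    (h1 : n ≠ 1) (hm : n % s = 1) (h : s ^ 2 * n + 4 ≤ s ^ 3 + 5 * s ^ 2 + 4 * n) :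
    n = s + 1 ∨ (s ≤ 5 ∧ n.Prime) := by
  obtain ⟨c, hc⟩ : ∃ c, n = s * c + 1 := ⟨n / s, by have := Nat.div_add_mod n s; omega⟩
  have hc0 : c ≠ 0 := by rintro rfl; omega
  have hs2 := hs.two_le
  have hr10 : ∀ k, r ^ k ≠ 10 := fun k hk => by
    have a2 : 2 ∣ r := Nat.prime_two.dvd_of_dvd_pow (n := k) (by rw [hk]; norm_num)
    have a5 : 5 ∣ r := Nat.prime_five.dvd_of_dvd_pow (n := k) (by rw [hk]; norm_num)
    rw [Nat.prime_dvd_prime_iff_eq (by norm_num) hr] at a2 a5
    omega
  by_cases hc1 : c = 1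
  · left; rw [hc, hc1, mul_one]
  right
  have hc2 : 2 ≤ c := by omega
  have hs5 : s ≤ 5 := by
    by_contra h5
    have h6 : 6 ≤ s := by omega
    obtain ⟨d, rfl⟩ : ∃ d, c = d + 2 := ⟨c - 2, by omega⟩
    obtain ⟨e, rfl⟩ : ∃ e, s = e + 6 := ⟨s - 6, by omega⟩
    subst hc
    nlinarith [Nat.zero_le (e * d), Nat.zero_le (e ^ 2 * d), Nat.zero_le (e ^ 3 * d),
      Nat.zero_le (e ^ 2), Nat.zero_le (e ^ 3)]
  refine ⟨hs5, ?_⟩
  have := hr10 a
  interval_cases s
  · omega
  · have : n = 7 ∨ n = 13 := by omega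
    rcases this with h | h <;> rw [h] <;> norm_num
  · exact absurd hs (by norm_num)
  · have : n = 11 := by omega
    rw [this]; norm_num

end Cfsg.Agent.H27
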