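import Cfsg.Agent.H27.AcdB
import Cfsg.Agent.H2.FpfCyclic

/-!
# Real elements of prime order acting on an abelian normal subgroup
-/

set_option autoImplicit false

open Cfsg Subgroup

namespace Cfsg.Agent.H27

variable {G : Type*} [Group G]

theorem exists_cW (V : Subgroup G) [hN : V.Normal] (hV : ∀ a ∈ V, ∀ b ∈ V, a * b = b * a)
    (x : G) : ∃ W : Subgroup G, ∀ w, w ∈ W ↔ ∃ v ∈ V, w = v⁻¹ * (x * v * x⁻¹) := by
  refine ⟨⟨⟨⟨{w | ∃ v ∈ V, w = v⁻¹ * (x * v * x⁻¹)}, ?_⟩, ⟨1, V.one_mem, by simp⟩⟩, ?_⟩,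
    fun _ => Iff.rfl⟩
  · rintro _ _ ⟨v, hv, rfl⟩ ⟨u, hu, rfl⟩
    refine ⟨v * u, V.mul_mem hv hu, ?_⟩
    have := hV _ (V.mul_mem (V.inv_mem hv) (hN.conj_mem v hv x)) _ (V.inv_mem hu)
    calc v⁻¹ * (x * v * x⁻¹) * (u⁻¹ * (x * u * x⁻¹))
        = v⁻¹ * (x * v * x⁻¹) * u⁻¹ * (x * u * x⁻¹) := by group
      _ = _ := by rw [this]; group
  · rintro _ ⟨v, hv, rfl⟩
    refine ⟨v⁻¹, V.inv_mem hv, ?_⟩
    have := hV _ hv _ (hN.conj_mem _ (V.inv_mem hv) x)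
    rw [inv_inv, this]; group

section
variable {V W : Subgroup G} [hN : V.Normal] (hV : ∀ a ∈ V, ∀ b ∈ V, a * b = b * a) {x : G}
  (hW : ∀ w, w ∈ W ↔ ∃ v ∈ V, w = v⁻¹ * (x * v * x⁻¹))
include hW

theorem cW_le : W ≤ V := fun w hw => by
  obtain ⟨v, hv, rfl⟩ := (hW w).1 hw
  exact V.mul_mem (V.inv_mem hv) (hN.conj_mem v hv x)

theorem cW_pow (j : ℕ) : ∀ v ∈ V, v⁻¹ * (x ^ j * v * (x ^ j)⁻¹) ∈ W := by
  induction j with
  | zero => intro v _; simp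
  | succ j ih =>
    intro v hv
    have := W.mul_mem ((hW _).2 ⟨v, hv, rfl⟩) (ih _ (hN.conj_mem v hv x))
    convert this using 1
    rw [pow_succ]; group

include hV in
theorem cW_norm [Finite G] {g : G} {j : ℕ} (h : (x ^ j)⁻¹ * (g * x * g⁻¹) ∈ V) :
    g ∈ normalizer (W : Set G) := by
  refine mem_normalizer_fintype fun w hw => ?_
  obtain ⟨v, hv, rfl⟩ := (hW w).1 hw
  have h1 := hN.conj_mem v hv g
  have h2 := hV _ h _ h1
  have h3 := cW_pow hW j _ h1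
  have : g * (v⁻¹ * (x * v * x⁻¹)) * g⁻¹ =
      (g * v * g⁻¹)⁻¹ * (x ^ j * (g * v * g⁻¹) * (x ^ j)⁻¹) := by
    calc _ = (g * v * g⁻¹)⁻¹ * (x ^ j * ((x ^ j)⁻¹ * (g * x * g⁻¹) *
        (g * v * g⁻¹)) * ((x ^ j)⁻¹ * (g * x * g⁻¹))⁻¹ * (x ^ j)⁻¹) := by group
      _ = _ := by rw [h2]; group
  rw [this]
  exact h3

omit hN in
theorem cW_fpf [Finite G] {r : ℕ} (hr : ∀ w ∈ W, w ^ r = 1) (hs : (orderOf x).Prime)
    (hc : (orderOf x).Coprime r) :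
    ∀ t ∈ zpowers x, t ≠ 1 → ∀ w ∈ W, t * w = w * t → w = 1 := by
  intro t ht h1 w hw hc'
  have hx : x ∈ zpowers t := H2.zpowers_eq_of_mem_of_prime hs ht h1 ▸ mem_zpowers x
  obtain ⟨i, hi⟩ := hx
  have hxw : Commute x w := by
    have : Commute t w := hc'
    rw [← hi]; exact this.zpow_left i
  obtain ⟨v, hv, e⟩ := (hW w).1 hw
  have key : ∀ n : ℕ, x ^ n * v * (x ^ n)⁻¹ = v * w ^ n := by
    intro n
    induction n with
    | zero => simp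
    | succ n ih =>
      calc x ^ (n + 1) * v * (x ^ (n + 1))⁻¹ = x * (x ^ n * v * (x ^ n)⁻¹) * x⁻¹ := by
            rw [pow_succ']; group
        _ = v * (v⁻¹ * (x * v * x⁻¹)) * (x * w ^ n * x⁻¹) := by rw [ih]; group
        _ = v * w ^ (n + 1) := by
            rw [← e, (hxw.pow_right n).eq, pow_succ']; group
  have h2 := key (orderOf x)
  rw [pow_orderOf_eq_one, one_mul, inv_one, mul_one, left_eq_mul] at h2
  have := Nat.dvd_gcd (orderOf_dvd_of_pow_eq_one h2) (orderOf_dvd_of_pow_eq_one (hr w hw))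
  rwa [hc.gcd_eq_one, Nat.dvd_one, orderOf_eq_one_iff] at this

end

theorem mod_data [Finite G] (hG : SAcd G) (V : Subgroup G) [V.Normal]
    (hV : ∀ a ∈ V, ∀ b ∈ V, a * b = b * a) {r : ℕ} (hr : r.Prime) (hVr : ∀ v ∈ V, v ^ r = 1)
    {x : G} (hs : (orderOf x).Prime) (h2 : orderOf x ≠ 2) (hsr : orderOf x ≠ r)
    (hp : V ⊔ zpowers x ≠ ⊤) (hx : ¬ ∀ v ∈ V, x * v = v * x) :
    ∃ W : Subgroup G, W ≤ V ∧
      (∀ (g : G) (j : ℕ), (x ^ j)⁻¹ * (g * x * g⁻¹) ∈ V → g ∈ normalizer (W : Set G)) ∧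
      zpowers x ≤ normalizer (W : Set G) ∧
      (∀ t ∈ zpowers x, t ≠ 1 → ∀ w ∈ W, t * w = w * t → w = 1) ∧
      (∃ a, Nat.card W = r ^ a) ∧
      (Nat.card W = orderOf x + 1 ∨ (orderOf x ≤ 5 ∧ (Nat.card W).Prime)) := by
  obtain ⟨W, hW⟩ := exists_cW V hV x
  have hle := cW_le hW
  have hWr : ∀ w ∈ W, w ^ r = 1 := fun w hw => hVr w (hle hw)
  have hf := cW_fpf hW hWr hs ((Nat.coprime_primes hs hr).2 hsr)
  have hn : zpowers x ≤ normalizer (W : Set G) :=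
    zpowers_le.2 (cW_norm hV hW (j := 1) (by simp))
  have := Fact.mk hr
  obtain ⟨a, ha⟩ := (IsPGroup.iff_card (p := r) (G := W)).1 fun w =>
    ⟨1, Subtype.ext (by simpa using hWr w w.2)⟩
  refine ⟨W, hle, fun g j h => cW_norm hV hW h, hn, hf, ⟨a, ha⟩, ?_⟩
  have hx1 : x ≠ 1 := fun e => hs.ne_one (by rw [e, orderOf_one])
  have hi := frob_ineq hn (by simpa using hx1) hf
    (hG _ fun e => hp (eq_top_iff.2 (e.ge.trans (sup_le_sup_right hle _))))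
  rw [Nat.card_zpowers] at hi
  refine frob_num hs h2 hr ha (fun e => hx fun v hv => ?_)
    (frob_mod hn hs (Nat.card_zpowers x) hf) hi
  have h1 : v⁻¹ * (x * v * x⁻¹) ∈ W := (hW _).2 ⟨v, hv, rfl⟩
  rw [card_eq_one.1 e, mem_bot, inv_mul_eq_one] at h1
  exact mul_inv_eq_iff_eq_mul.1 h1.symm

theorem not_prime_of_real [Finite G] {W : Subgroup G} {x t : G}
    (hx : x ∈ normalizer (W : Set G)) (ht : t ∈ normalizer (W : Set G))
    (hreal : ∀ w ∈ W, t * (x * w * x⁻¹) * t⁻¹ = x⁻¹ * (t * w * t⁻¹) * x)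
    (hf : ∀ w ∈ W, x ^ 2 * w = w * x ^ 2 → w = 1) : ¬ (Nat.card W).Prime := by
  intro hp
  have := Fact.mk hp
  have : Nontrivial W := Finite.one_lt_card_iff_nontrivial.1 hp.one_lt
  obtain ⟨⟨w, hw⟩, h1⟩ := exists_ne (1 : W)
  have hgen : ∀ u ∈ W, ∃ k : ℤ, w ^ k = u := fun u hu => by
    obtain ⟨k, hk⟩ := mem_zpowers_of_prime_card (G := W) rfl h1 (g' := ⟨u, hu⟩)
    exact ⟨k, congrArg Subtype.val hk⟩
  have htw := (mem_normalizer_iff.1 ht w).1 hw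
  obtain ⟨a, ha⟩ := hgen _ ((mem_normalizer_iff.1 hx w).1 hw)
  obtain ⟨b, hb⟩ := hgen _ htw
  have e1 : t * (x * w * x⁻¹) * t⁻¹ = w ^ (b * a) := by
    rw [← ha, ← conj_zpow, ← hb, zpow_mul]
  have e2 : x * (t * w * t⁻¹) * x⁻¹ = w ^ (b * a) := by
    rw [← hb, ← conj_zpow, ← ha, mul_comm b, zpow_mul]
  have e3 := hf _ htw (by
    have := (hreal w hw).symm.trans (e1.trans e2.symm)
    calc x ^ 2 * (t * w * t⁻¹) = x * (x * (t * w * t⁻¹) * x⁻¹) * x := by rw [sq]; group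
      _ = _ := by rw [← this, sq]; group)
  exact h1 (Subtype.ext (by simpa using e3))

theorem three_of_real [Finite G] {W : Subgroup G} {x t : G}
    (hW : ∀ a ∈ W, ∀ b ∈ W, a * b = b * a) (hW2 : ∀ w ∈ W, w ^ 2 = 1)
    (hx : zpowers x ≤ normalizer (W : Set G)) (ht : t ∈ normalizer (W : Set G))
    (hreal : ∀ g ∈ zpowers x, ∀ w ∈ W, t * (g * w * g⁻¹) * t⁻¹ = g⁻¹ * (t * w * t⁻¹) * g)
    (hf : ∀ g ∈ zpowers x, g ≠ 1 → ∀ w ∈ W, g * w = w * g → w = 1)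
    (ho : Odd (orderOf x)) (hc : Nat.card W = orderOf x + 1) : x ^ 3 = 1 := by
  classical
  have := Fintype.ofFinite G
  have : Nontrivial W := Finite.one_lt_card_iff_nontrivial.1 (by
    have := orderOf_pos x; omega)
  obtain ⟨⟨v, hv⟩, h1⟩ := exists_ne (1 : W)
  have hv1 : v ≠ 1 := fun e => h1 (Subtype.ext e)
  have hcm : ∀ g ∈ zpowers x, ∀ k ∈ zpowers x, g * k = k * g := by
    rintro _ ⟨i, rfl⟩ _ ⟨j, rfl⟩
    exact (Commute.refl x).zpow_zpow i j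
  have hinj : ∀ g ∈ zpowers x, ∀ k ∈ zpowers x, g * v * g⁻¹ = k * v * k⁻¹ → g = k := by
    intro g hg k hk e
    by_contra hne
    refine hv1 (hf (k⁻¹ * g) (mul_mem (inv_mem hk) hg)
      (fun e => hne (inv_mul_eq_one.1 e).symm) v hv ?_)
    calc k⁻¹ * g * v = k⁻¹ * (g * v * g⁻¹) * g := by group
      _ = v * (k⁻¹ * g) := by rw [e]; group
  have hmem : ∀ g ∈ zpowers x, g * v * g⁻¹ ∈ W := fun g hg =>
    (mem_normalizer_iff.1 (hx hg) v).1 hv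
  have hsurj : ∀ w ∈ W, w ≠ 1 → ∃ g ∈ zpowers x, g * v * g⁻¹ = w := by
    intro w hw hw1
    have := Finset.surj_on_of_inj_on_of_card_le (s := Finset.univ.filter fun g => g ∈ zpowers x)
      (t := (Finset.univ.filter fun g => g ∈ W).erase 1) (fun g _ => g * v * g⁻¹)
      (fun g hg => by
        simp only [Finset.mem_filter, Finset.mem_univ, true_and, Finset.mem_erase] at hg ⊢
        exact ⟨by simpa using hv1, hmem g hg⟩)
      (fun g k hg hk e => hinj g (by simpa using hg) k (by simpa using hk) e)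
      (by
        rw [Finset.card_erase_of_mem (by simp), ← Fintype.card_subtype, ← Fintype.card_subtype,
          ← Nat.card_eq_fintype_card, ← Nat.card_eq_fintype_card, hc, Nat.card_zpowers]
        simp) w (by simp [hw, hw1])
    obtain ⟨g, hg, e⟩ := this
    exact ⟨g, by simpa using hg, e.symm⟩
  have hvv : v⁻¹ = v := inv_eq_of_mul_eq_one_right (by rw [← sq, hW2 v hv])
  have hodd : ∀ g ∈ zpowers x, g ^ 2 = 1 → g = 1 := fun g hg h => by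
    have := Nat.dvd_gcd (orderOf_dvd_of_mem_zpowers hg) (orderOf_dvd_of_pow_eq_one h)
    rwa [(Nat.coprime_two_right.2 ho).gcd_eq_one, Nat.dvd_one, orderOf_eq_one_iff] at this
  have hx1 : x ∈ zpowers x := mem_zpowers x
  have hx2 : x ^ 2 ∈ zpowers x := pow_mem hx1 2
  by_cases hx0 : x = 1
  · simp [hx0]
  obtain ⟨h, hh, eh⟩ := hsurj _ ((mem_normalizer_iff.1 ht v).1 hv) (by simpa using hv1)
  obtain ⟨k, hk, ek⟩ := hsurj _ (mul_mem hv (hmem _ hx2)) fun e => by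
    rw [mul_eq_one_iff_inv_eq, hvv] at e
    exact hx0 (hodd x hx1 (hinj _ hx2 1 (one_mem _) (by rw [← e]; simp)))
  have e1 : k⁻¹ * (h * v * h⁻¹) * k = h * v * h⁻¹ * ((x ^ 2)⁻¹ * (h * v * h⁻¹) * x ^ 2) := by
    rw [eh, ← hreal k hk v hv, ← hreal _ hx2 v hv, ek]; group
  have c1 := hcm _ hh _ hk
  have c2 := hcm _ hh _ hx2
  have c3 := hcm _ hk _ hx2
  have e2 : (x ^ 2 * k⁻¹) * v * (x ^ 2 * k⁻¹)⁻¹ = k * v * k⁻¹ := by
    have d1 : h⁻¹ * k⁻¹ * h = k⁻¹ := by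
      rw [← mul_inv_rev, ← c1]; group
    have d2 : h⁻¹ * (x ^ 2)⁻¹ * h = (x ^ 2)⁻¹ := by
      rw [← mul_inv_rev, ← c2]; group
    have e3 : k⁻¹ * v * k = v * ((x ^ 2)⁻¹ * v * x ^ 2) := by
      calc k⁻¹ * v * k = (h⁻¹ * k⁻¹ * h) * v * (h⁻¹ * k⁻¹ * h)⁻¹ := by rw [d1, inv_inv]
        _ = h⁻¹ * (k⁻¹ * (h * v * h⁻¹) * k) * h := by group
        _ = v * ((h⁻¹ * (x ^ 2)⁻¹ * h) * v * (h⁻¹ * (x ^ 2)⁻¹ * h)⁻¹) := by rw [e1]; group
        _ = _ := by rw [d2, inv_inv]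
    calc _ = x ^ 2 * (k⁻¹ * v * k) * (x ^ 2)⁻¹ := by group
      _ = x ^ 2 * v * (x ^ 2)⁻¹ * v := by rw [e3]; group
      _ = _ := by rw [ek, hW _ hv _ (hmem _ hx2)]
  have e4 := hinj _ (mul_mem hx2 (inv_mem hk)) _ hk e2
  have e5 : k = x := by
    have : (k * x⁻¹) ^ 2 = 1 := by
      have c4 : Commute k x⁻¹ := hcm _ hk _ (inv_mem hx1)
      rw [c4.mul_pow, sq k, ← mul_inv_eq_iff_eq_mul.1 e4, inv_pow, mul_inv_cancel]
    exact mul_inv_eq_one.1 (hodd _ (mul_mem hk (inv_mem hx1)) this)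
  subst e5
  refine hinj _ (pow_mem hx1 3) 1 (one_mem _) ?_
  have c5 := hW _ (inv_mem hv) _ (hmem _ hx1)
  have f1 : k ^ 2 * v * (k ^ 2)⁻¹ = v⁻¹ * (k * v * k⁻¹) := by rw [ek]; group
  calc k ^ 3 * v * (k ^ 3)⁻¹ = (k * v * k⁻¹)⁻¹ * (k * (v * (k ^ 2 * v * (k ^ 2)⁻¹)) * k⁻¹) := by
        group
    _ = (k * v * k⁻¹)⁻¹ * (k ^ 2 * v * (k ^ 2)⁻¹) := by rw [← ek, sq]; group
    _ = _ := by rw [f1, c5, hvv]; group

end Cfsg.Agent.H27
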