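import Cfsg.Agent.H27.AcdC
import Cfsg.Agent.H5.Lift

/-!
# Elementary abelian normal subgroups are central
-/

set_option autoImplicit false

open Cfsg Subgroup
open scoped commutatorElement

namespace Cfsg.Agent.H27

variable {G X : Type*} [Group G] [Finite G] [Group X] {π : G →* X}

theorem classes_le_of_surjective (hπ : Function.Surjective π) :
    Nat.card (ConjClasses X) ≤ Nat.card (ConjClasses G) :=
  Nat.card_le_card_of_surjective _ (ConjClasses.map_surjective hπ)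

theorem card_pow_of_exp {V : Subgroup G} {r : ℕ} (hr : r.Prime) (hVr : ∀ v ∈ V, v ^ r = 1) :
    ∃ a, Nat.card V = r ^ a := by
  have := Fact.mk hr
  exact (IsPGroup.iff_card (p := r) (G := V)).1 fun w =>
    ⟨1, Subtype.ext (by simpa using hVr w w.2)⟩

theorem exists_sect (hπ : Function.Surjective π) {r : ℕ} (hr : r.Prime)
    (hVr : ∀ v ∈ π.ker, v ^ r = 1) (B : Subgroup X) (hB : r.Coprime (Nat.card B)) :
    ∃ σ : B →* G, (∀ b, π (σ b) = b) ∧ ∀ b, orderOf (σ b) = orderOf (b : X) := by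
  have := Finite.of_surjective π hπ
  obtain ⟨a, ha⟩ := card_pow_of_exp hr hVr
  obtain ⟨σ, hσ⟩ := H5.exists_lift_of_coprime π hπ B.subtype (ha ▸ hB.pow_left a)
  have h1 : ∀ b, π (σ b) = b := fun b => DFunLike.congr_fun hσ b
  refine ⟨σ, h1, fun b => ?_⟩
  rw [orderOf_injective σ (fun a b e => Subtype.ext (by rw [← h1, ← h1, e])), orderOf_coe]

omit [Finite G] in
theorem ker_sup_ne_top (hπ : Function.Surjective π) {W T : Subgroup G} (hW : W ≤ π.ker)
    (hT : T.map π ≠ ⊤) : W ⊔ T ≠ ⊤ := fun e => hT (by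
  have h := congrArg (map π) e
  rwa [Subgroup.map_sup, (Subgroup.map_eq_bot_iff _).2 hW, bot_sup_eq, map_top_of_surjective π hπ] at h)

theorem cent_of_real (hπ : Function.Surjective π) (hG : SAcd G)
    (hV : ∀ a ∈ π.ker, ∀ b ∈ π.ker, a * b = b * a) {r : ℕ} (hr : r.Prime)
    (hVr : ∀ v ∈ π.ker, v ^ r = 1) {y u : X} (hs : (orderOf y).Prime) (h2 : orderOf y ≠ 2)
    (hsr : orderOf y ≠ r) (h3 : r = 2 → orderOf y ≠ 3) (hu : u * y * u⁻¹ = y⁻¹) :
    ∃ x, π x = y ∧ ∀ v ∈ π.ker, x * v = v * x := by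
  obtain ⟨σ, h1, ho⟩ := exists_sect hπ hr hVr (zpowers y)
    (by rw [Nat.card_zpowers]; exact (Nat.coprime_primes hr hs).2 hsr.symm)
  obtain ⟨x, hx, hxo⟩ : ∃ x, π x = y ∧ orderOf x = orderOf y := ⟨_, h1 ⟨y, mem_zpowers y⟩, ho _⟩
  refine ⟨x, hx, ?_⟩
  by_contra hc
  obtain ⟨t, rfl⟩ := hπ u
  have hy2 : y ^ 2 ≠ 1 := fun e =>
    h2 ((Nat.prime_dvd_prime_iff_eq hs Nat.prime_two).1 (orderOf_dvd_of_pow_eq_one e))
  have hp : π.ker ⊔ zpowers x ≠ ⊤ := ker_sup_ne_top hπ le_rfl fun e => by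
    rw [MonoidHom.map_zpowers, hx] at e
    obtain ⟨k, hk⟩ := e.ge (mem_top (π t))
    have : Commute (π t) y := by rw [← hk]; exact (Commute.refl y).zpow_left k
    rw [this.eq, mul_inv_cancel_right] at hu
    exact hy2 (by rw [sq]; nth_rewrite 1 [hu]; exact inv_mul_cancel y)
  rw [← hxo] at hs h2 hsr h3
  obtain ⟨W, hle, hn, hxn, hf, ⟨a, ha⟩, hW⟩ := mod_data hG π.ker hV hr hVr hs h2 hsr hp hc
  have ht : t ∈ normalizer (W : Set G) := hn t (orderOf x - 1) (by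
    rw [MonoidHom.mem_ker, map_mul, map_mul, map_mul, map_inv, map_inv, map_pow, hx, hu,
      ← mul_inv_rev, ← pow_succ', Nat.sub_add_cancel hs.one_le, hxo, pow_orderOf_eq_one, inv_one])
  have hreal : ∀ g ∈ zpowers x, ∀ w ∈ W,
      t * (g * w * g⁻¹) * t⁻¹ = g⁻¹ * (t * w * t⁻¹) * g := by
    rintro _ ⟨k, rfl⟩ w hw
    have e1 : x ^ k * (t * x ^ k * t⁻¹) ∈ π.ker := by
      rw [MonoidHom.mem_ker, map_mul, map_mul, map_mul, map_inv, map_zpow, hx, ← conj_zpow, hu,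
        inv_zpow, mul_inv_cancel]
    have e2 := hV _ e1 _ (hle ((mem_normalizer_iff.1 ht w).1 hw))
    calc t * (x ^ k * w * (x ^ k)⁻¹) * t⁻¹ = (x ^ k)⁻¹ * (x ^ k * (t * x ^ k * t⁻¹) *
          (t * w * t⁻¹)) * (x ^ k * (t * x ^ k * t⁻¹))⁻¹ * x ^ k := by group
      _ = _ := by rw [e2]; group
  have hodd : Odd (orderOf x) := hs.odd_of_ne_two h2
  rcases hW with hW | ⟨-, hW⟩
  · have hr2 : r = 2 := by
      have : 2 ∣ r ^ a := by rw [← ha, hW]; exact hodd.add_one.two_dvd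
      exact ((Nat.prime_dvd_prime_iff_eq Nat.prime_two hr).1
        (Nat.prime_two.dvd_of_dvd_pow this)).symm
    subst hr2
    exact h3 rfl ((Nat.prime_dvd_prime_iff_eq hs Nat.prime_three).1 (orderOf_dvd_of_pow_eq_one
      (three_of_real (fun a ha b hb => hV a (hle ha) b (hle hb)) (fun w hw => hVr w (hle hw))
        hxn ht hreal hf hodd hW)))
  · refine not_prime_of_real (hxn (mem_zpowers x)) ht (hreal x (mem_zpowers x))
      (hf _ (pow_mem (mem_zpowers x) 2) fun e => hy2 ?_) hW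
    rw [← hx, ← map_pow, e, map_one]

omit [Finite G] in
theorem central_of_cent (hπ : Function.Surjective π)
    (hV : ∀ a ∈ π.ker, ∀ b ∈ π.ker, a * b = b * a) {y : X}
    (hy : ∀ N : Subgroup X, N.Normal → y ∈ N → N = ⊤)
    (h : ∃ x, π x = y ∧ ∀ v ∈ π.ker, x * v = v * x) : π.ker ≤ center G := by
  obtain ⟨x, rfl, hx⟩ := h
  have h1 := hy ((centralizer (π.ker : Set G)).map π) (Normal.map inferInstance π hπ)
    ⟨x, fun v hv => (hx v hv).symm, rfl⟩
  have h2 : π.ker ≤ centralizer (π.ker : Set G) := fun v hv w hw => hV w hw v hv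
  have h3 := comap_map_eq_self h2
  rw [h1, comap_top] at h3
  intro v hv
  exact mem_center_iff.2 fun g => ((h3.le (mem_top g)) v hv).symm

omit [Finite G] in
theorem mem_normalizer_zpowers_of [Finite G] {x y : G} {j : ℕ} (h : y * x * y⁻¹ = x ^ j) :
    y ∈ normalizer (zpowers x : Set G) := by
  refine mem_normalizer_fintype ?_
  rintro _ ⟨k, rfl⟩
  change y * x ^ k * y⁻¹ ∈ zpowers x
  rw [← conj_zpow, h]
  exact zpow_mem (pow_mem (mem_zpowers x) j) k

theorem not_acd_168 {W : Subgroup G} {x y : G} (hx : orderOf x = 7) (hy : orderOf y = 3)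
    (hxy : y * x * y⁻¹ = x ^ 2) (hW : Nat.card W = 8) (hxn : zpowers x ≤ normalizer (W : Set G))
    (hyn : y ∈ normalizer (W : Set G))
    (hf : ∀ t ∈ zpowers x, t ≠ 1 → ∀ w ∈ W, t * w = w * t → w = 1) :
    ¬ Acd ((W ⊔ zpowers x) ⊔ zpowers y : Subgroup G) := by
  intro h
  have hK := card_sup_of hxn (disjoint_of_fpf hf)
  have hk := frob_classes hxn hf
  rw [Nat.card_zpowers, hx, hW] at hK hk
  have hn : zpowers y ≤ normalizer ((W ⊔ zpowers x : Subgroup G) : Set G) := zpowers_le.2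
    (normalizer_inf_normalizer_le_normalizer_sup _ _ ⟨hyn, mem_normalizer_zpowers_of hxy⟩)
  have hd : Disjoint (W ⊔ zpowers x) (zpowers y) :=
    disjoint_of_coprime_natCard (by rw [hK, Nat.card_zpowers, hy]; norm_num)
  have hH := card_sup_of hn hd
  have hi := index_sup_of hn hd
  rw [Nat.card_zpowers, hy] at hH hi
  rw [hK] at hH
  have := normal_sup_of hn
  have h1 := S4201.result ((W ⊔ zpowers x).subgroupOf ((W ⊔ zpowers x) ⊔ zpowers y))
  have h2 := classes_le_of_surjective (π := (subgroupOfEquivOfLe (le_sup_left :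
    W ⊔ zpowers x ≤ (W ⊔ zpowers x) ⊔ zpowers y)).symm.toMonoidHom) (MulEquiv.surjective _)
  have h3 := classes_le_card
    (_ ⧸ (W ⊔ zpowers x).subgroupOf ((W ⊔ zpowers x) ⊔ zpowers y))
  rw [← index_eq_card, hi] at h3
  have h4 := h1.trans (Nat.mul_le_mul (h2.trans (show _ ≤ 8 by omega)) h3)
  have hxH : x ∈ (W ⊔ zpowers x) ⊔ zpowers y := mem_sup_left (mem_sup_right (mem_zpowers x))
  have hyH : y ∈ (W ⊔ zpowers x) ⊔ zpowers y := mem_sup_right (mem_zpowers y)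
  have hWn : (W.subgroupOf ((W ⊔ zpowers x) ⊔ zpowers y)).Normal :=
    normal_subgroupOf_of_le_normalizer (sup_le (sup_le le_normalizer hxn) (zpowers_le.2 hyn))
  have hx1 : x ≠ 1 := fun e => by simp [e] at hx
  have h5 : (W ⊔ zpowers x).subgroupOf ((W ⊔ zpowers x) ⊔ zpowers y) ≤ commutator _ := by
    rw [subgroupOf_sup (le_sup_left.trans le_sup_left) (le_sup_right.trans le_sup_left)]
    refine sup_le (frobT_le_commutator _ (t := ⟨x, hxH⟩) fun w hw e =>
      Subtype.ext (hf x (mem_zpowers x) hx1 w hw (congrArg Subtype.val e))) ?_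
    rintro ⟨_, hg⟩ ⟨k, rfl⟩
    have e := commutator_mem_commutator (mem_top (⟨y, hyH⟩ :
      ((W ⊔ zpowers x) ⊔ zpowers y : Subgroup G))) (mem_top ⟨x, hxH⟩)
    have e' : (⁅(⟨y, hyH⟩ : ((W ⊔ zpowers x) ⊔ zpowers y : Subgroup G)),
        (⟨x, hxH⟩ : ((W ⊔ zpowers x) ⊔ zpowers y : Subgroup G))⁆ :
        ((W ⊔ zpowers x) ⊔ zpowers y : Subgroup G)) = ⟨x, hxH⟩ := by
      apply Subtype.ext
      change y * x * y⁻¹ * x⁻¹ = x
      rw [hxy, sq, mul_inv_cancel_right]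
    rw [e'] at e
    exact zpow_mem e k
  have h6 := Nat.le_of_dvd (Nat.pos_of_ne_zero index_ne_zero_of_finite) (index_dvd_of_le h5)
  rw [hi] at h6
  have := h.card_le_of h6 h4
  omega

theorem cent_of_seven (hπ : Function.Surjective π) (hG : SAcd G)
    (hV : ∀ a ∈ π.ker, ∀ b ∈ π.ker, a * b = b * a) {r : ℕ} (hr : r = 2 ∨ r = 3)
    (hVr : ∀ v ∈ π.ker, v ^ r = 1) {a b : X} (ha : orderOf a = 7) (hb : orderOf b = 3)
    (hab : b * a * b⁻¹ = a ^ 2) (hX : Nat.card X ≠ 21) :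
    ∃ x, π x = a ∧ ∀ v ∈ π.ker, x * v = v * x := by
  have := Finite.of_surjective π hπ
  have hrp : r.Prime := by rcases hr with rfl | rfl <;> norm_num
  have hB : Nat.card (zpowers a ⊔ zpowers b : Subgroup X) = 21 := by
    rw [card_sup_of (zpowers_le.2 (mem_normalizer_zpowers_of hab)) (disjoint_of_coprime_natCard
      (by rw [Nat.card_zpowers, Nat.card_zpowers, ha, hb]; norm_num)), Nat.card_zpowers,
      Nat.card_zpowers, ha, hb]
  have hBt : ∀ T : Subgroup G, T.map π ≤ zpowers a ⊔ zpowers b → T.map π ≠ ⊤ := fun T h e => by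
    rw [e, top_le_iff] at h
    rw [h, card_top] at hB
    exact hX hB
  have key : ∀ x, π x = a → orderOf x = 7 → (¬ ∀ v ∈ π.ker, x * v = v * x) →
      ∃ W : Subgroup G, W ≤ π.ker ∧ (∀ (g : G) (j : ℕ), (x ^ j)⁻¹ * (g * x * g⁻¹) ∈ π.ker →
        g ∈ normalizer (W : Set G)) ∧ zpowers x ≤ normalizer (W : Set G) ∧
      (∀ t ∈ zpowers x, t ≠ 1 → ∀ w ∈ W, t * w = w * t → w = 1) ∧
      (∃ a, Nat.card W = r ^ a) ∧ Nat.card W = 8 := fun x hx hx7 hc => by
    obtain ⟨W, h1, h2, h3, h4, h5, h6⟩ := mod_data hG π.ker hV hrp hVr (x := x)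
      (by rw [hx7]; norm_num) (by omega) (by omega)
      (ker_sup_ne_top hπ le_rfl (hBt _ (by rw [MonoidHom.map_zpowers, hx]; exact le_sup_left))) hc
    exact ⟨W, h1, h2, h3, h4, h5, by omega⟩
  rcases hr with rfl | rfl
  · obtain ⟨σ, h1, ho⟩ := exists_sect hπ hrp hVr _ (by rw [hB]; norm_num)
    let a' : (zpowers a ⊔ zpowers b : Subgroup X) := ⟨a, mem_sup_left (mem_zpowers a)⟩
    let b' : (zpowers a ⊔ zpowers b : Subgroup X) := ⟨b, mem_sup_right (mem_zpowers b)⟩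
    refine ⟨σ a', h1 a', ?_⟩
    by_contra hc
    obtain ⟨W, h2, h3, h4, h5, -, h6⟩ := key _ (h1 a') ((ho a').trans ha) hc
    have e : σ b' * σ a' * (σ b')⁻¹ = σ a' ^ 2 := by
      rw [← map_inv, ← map_mul, ← map_mul, ← map_pow]
      exact congrArg σ (Subtype.ext hab)
    refine not_acd_168 ((ho a').trans ha) ((ho b').trans hb) e h6 h4
      (h3 _ 2 (by rw [e, inv_mul_cancel]; exact one_mem _)) h5 (hG _ ?_)
    rw [sup_assoc]
    refine ker_sup_ne_top hπ h2 (hBt _ ?_)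
    rw [Subgroup.map_sup, MonoidHom.map_zpowers, MonoidHom.map_zpowers, h1, h1]
  · obtain ⟨σ, h1, ho⟩ := exists_sect hπ hrp hVr (zpowers a)
      (by rw [Nat.card_zpowers, ha]; norm_num)
    refine ⟨σ ⟨a, mem_zpowers a⟩, h1 _, ?_⟩
    by_contra hc
    obtain ⟨W, -, -, -, -, ⟨k, hk⟩, h6⟩ := key _ (h1 _) ((ho _).trans ha) hc
    have : 2 ∣ 3 := Nat.prime_two.dvd_of_dvd_pow (n := k) (by rw [← hk, h6]; norm_num)
    omega

end Cfsg.Agent.H27
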