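import Cfsg.Agent.H77.ONS
import Cfsg.Agent.H49.Basic
import Cfsg.Agent.H24.FpfBasic
import Cfsg.Agent.H2.MinNormal
import Cfsg.Agent.S0215
import Cfsg.Agent.S0205

/-! Linear groups acting primitively on each of their orbits. -/

set_option autoImplicit false

namespace Cfsg.Agent.H27.EP

open Subgroup MulAction

section Inv

variable {T : Type*} [Group T] [Finite T]

theorem dih_even {s a : T} (hs : s * s = 1) (ha : a * a = 1) (h : Even (orderOf (s * a))) :
    ∃ z : T, z ≠ 1 ∧ z * z = 1 ∧ z * s = s * z ∧ z * a = a * z := by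
  obtain ⟨k, hk⟩ := h
  have hpos := orderOf_pos (s * a)
  have si : s⁻¹ = s := inv_eq_of_mul_eq_one_right hs
  have ai : a⁻¹ = a := inv_eq_of_mul_eq_one_right ha
  have hz : (s * a) ^ k * (s * a) ^ k = 1 := by rw [← pow_add, ← hk, pow_orderOf_eq_one]
  have h1 : s * (s * a) * s⁻¹ = (s * a)⁻¹ := by
    rw [mul_inv_rev, ai, si, ← mul_assoc, hs, one_mul]
  have h2 : s * (s * a) ^ k * s⁻¹ = (s * a) ^ k := by
    rw [← conj_pow, h1, inv_pow]
    exact inv_eq_of_mul_eq_one_right hz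
  have h3 : (s * a) ^ k * s = s * (s * a) ^ k := (mul_inv_eq_iff_eq_mul.1 h2).symm
  refine ⟨(s * a) ^ k, pow_ne_one_of_lt_orderOf (by omega) (by omega), hz, h3, ?_⟩
  have h4 : a = s * (s * a) := by rw [← mul_assoc, hs, one_mul]
  have h5 : (s * a) ^ k * (s * a) = (s * a) * (s * a) ^ k := by rw [← pow_succ, ← pow_succ']
  calc (s * a) ^ k * a = (s * a) ^ k * s * (s * a) := by rw [mul_assoc, ← h4]
    _ = s * (s * a) * (s * a) ^ k := by rw [h3, mul_assoc, h5, mul_assoc s (s * a)]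
    _ = a * (s * a) ^ k := by rw [← h4]

omit [Finite T] in
theorem dih_odd {s a : T} (hs : s * s = 1) (ha : a * a = 1) (h : Odd (orderOf (s * a))) :
    ∃ b : T, b * b = 1 ∧ b * s * b = a := by
  obtain ⟨k, hk⟩ := h
  have si : s⁻¹ = s := inv_eq_of_mul_eq_one_right hs
  have ai : a⁻¹ = a := inv_eq_of_mul_eq_one_right ha
  have h1 : s * (s * a) * s⁻¹ = (s * a)⁻¹ := by
    rw [mul_inv_rev, ai, si, ← mul_assoc, hs, one_mul]
  have h2 : s * (s * a) ^ k * s = ((s * a) ^ k)⁻¹ := by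
    rw [← inv_pow, ← h1, conj_pow, si]
  have h3 : (s * a) ^ k * (s * a) ^ k * (s * a) = 1 := by
    rw [← pow_add, ← pow_succ, ← two_mul, ← hk, pow_orderOf_eq_one]
  refine ⟨(s * a) ^ k * s, ?_, ?_⟩
  · calc (s * a) ^ k * s * ((s * a) ^ k * s) = (s * a) ^ k * (s * (s * a) ^ k * s) := by group
      _ = 1 := by rw [h2, mul_inv_cancel]
  · calc (s * a) ^ k * s * s * ((s * a) ^ k * s)
        = (s * a) ^ k * (s * s) * (s * a) ^ k * s := by group
      _ = ((s * a) ^ k * (s * a) ^ k * (s * a)) * (s * a)⁻¹ * s := by rw [hs]; group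
      _ = a := by rw [h3, one_mul, mul_inv_rev, ai, si, mul_assoc, hs, mul_one]

theorem inv_lemma [IsSimpleGroup T] (hc : ¬ IsMulCommutative T) (R : Subgroup T) (hR : R ≠ ⊤)
    {c : T} (c1 : c ≠ 1) (cc : c * c = 1) (hC : ∀ x, x * c = c * x → x ∈ R)
    (hti : ∀ a, a * a = 1 → a ∉ R → ∀ r ∈ R, a * r * a ∈ R → r = 1)
    (hM : ∀ g, (∀ s ∈ R, s * s = 1 → g * s * g⁻¹ ∈ R) → g ∈ R) : False := by
  have hcR : c ∈ R := hC c rfl
  have conj2 : ∀ g s : T, s * s = 1 → g * s * g⁻¹ * (g * s * g⁻¹) = 1 := fun g s h => by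
    rw [show g * s * g⁻¹ * (g * s * g⁻¹) = g * (s * s) * g⁻¹ by group, h]; group
  obtain ⟨a, aa, ha⟩ : ∃ a : T, a * a = 1 ∧ a ∉ R := by
    by_contra h
    push Not at h
    exact hR (eq_top_iff.2 fun g _ => hM g fun s _ hs => h _ (conj2 g s hs))
  have hb : ∀ s ∈ R, s * s = 1 → s ≠ 1 → ∃ b, b * b = 1 ∧ b ∉ R ∧ b * s * b = a := by
    intro s hs ss s1
    rcases Nat.even_or_odd (orderOf (s * a)) with h | h
    · obtain ⟨z, z1, zz, h1, h2⟩ := dih_even ss aa h
      by_cases hz : z ∈ R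
      · exact absurd (hti a aa ha z hz (by rwa [← h2, mul_assoc, aa, mul_one])) z1
      · exact absurd (hti z zz hz s hs (by rwa [h1, mul_assoc, zz, mul_one])) s1
    · obtain ⟨b, bb, e⟩ := dih_odd ss aa h
      exact ⟨b, bb, fun hb => ha (e ▸ mul_mem (mul_mem hb hs) hb), e⟩
  obtain ⟨b, bb, hbR, eb⟩ := hb c hcR cc c1
  have bi : b⁻¹ = b := inv_eq_of_mul_eq_one_right bb
  have eb' : b * a * b = c := by
    rw [← eb, show b * (b * c * b) * b = (b * b) * c * (b * b) by group, bb]; group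
  have hRC : ∀ r ∈ R, r * c = c * r := by
    intro r hr
    obtain ⟨d, dd, -, ed⟩ := hb (r * c * r⁻¹) (mul_mem (mul_mem hr hcR) (inv_mem hr))
      (conj2 r c cc) (fun e => c1 (by simpa using e))
    have di : d⁻¹ = d := inv_eq_of_mul_eq_one_right dd
    have h1 : b * d * r * c * (b * d * r)⁻¹ = c := by
      calc b * d * r * c * (b * d * r)⁻¹ = b * (d * (r * c * r⁻¹) * d⁻¹) * b⁻¹ := by group
        _ = c := by rw [di, ed, bi, eb']
    have h2 : b * d ∈ R := by
      have := mul_mem (hC _ (mul_inv_eq_iff_eq_mul.1 h1)) (inv_mem hr)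
      rwa [mul_inv_cancel_right] at this
    have h3 := hti b bb hbR _ h2 (by
      have := inv_mem h2
      rwa [mul_inv_rev, di, bi, ← one_mul d, ← bb, mul_assoc b b d] at this)
    have h4 : d = b := by rw [← bi]; exact (inv_eq_of_mul_eq_one_right h3).symm
    rw [h4, ← eb] at ed
    exact mul_inv_eq_iff_eq_mul.1 (mul_left_cancel (mul_right_cancel ed))
  have huniq : ∀ s ∈ R, s * s = 1 → s ≠ 1 → s = c := by
    intro s hs ss s1
    obtain ⟨d, dd, -, ed⟩ := hb s hs ss s1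
    have di : d⁻¹ = d := inv_eq_of_mul_eq_one_right dd
    have h1 : d * b * c * (d * b)⁻¹ = s := by
      calc d * b * c * (d * b)⁻¹ = d * (b * c * b⁻¹) * d⁻¹ := by group
        _ = (d * d) * s * (d * d) := by rw [bi, di, eb, ← ed]; group
        _ = s := by rw [dd]; group
    have h2 : d * b ∈ R := hM _ fun t ht tt => by
      by_contra hn
      refine s1 (hti _ (conj2 _ t tt) hn s hs ?_)
      have h3 : d * b * t * (d * b)⁻¹ * s * (d * b * t * (d * b)⁻¹) =
          d * b * (t * c * t) * (d * b)⁻¹ := by rw [← h1]; group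
      rwa [h3, hRC t ht, mul_assoc c, tt, mul_one, h1]
    rw [← h1, hRC _ h2, mul_inv_cancel_right]
  have : Fact (Nat.Prime 2) := ⟨Nat.prime_two⟩
  have oc : orderOf c = 2 := orderOf_eq_prime (by rw [pow_two, cc]) c1
  have hp : IsPGroup 2 (zpowers c) := IsPGroup.of_card (n := 1) (by rw [Nat.card_zpowers, oc]; rfl)
  obtain ⟨P, hP⟩ := hp.exists_le_sylow
  have hcP : c ∈ (P : Subgroup T) := hP (mem_zpowers c)
  obtain ⟨N, hN, hodd, hcN⟩ := S0215.result P c oc hcP fun g hg => by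
    by_contra hne
    have h1 := conj2 g c cc
    rcases Nat.even_or_odd (orderOf (c * (g * c * g⁻¹))) with h | h
    · obtain ⟨z, z1, zz, h2, h3⟩ := dih_even cc h1 h
      rw [huniq z (hC z h2) zz z1] at h3
      exact hne (huniq _ (hC _ h3.symm) h1 fun e => c1 (by simpa using e))
    · obtain ⟨k, hk⟩ := (IsPGroup.iff_orderOf.1 P.isPGroup') ⟨_, mul_mem hcP hg⟩
      rw [orderOf_mk] at hk
      rw [hk] at h
      have h2 : k = 0 := by
        by_contra h0
        exact (Nat.not_even_iff_odd.2 h) ((Nat.even_pow' h0).2 even_two)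
      rw [h2, pow_zero, orderOf_eq_one_iff] at hk
      exact hne ((inv_eq_of_mul_eq_one_right hk).symm.trans (inv_eq_of_mul_eq_one_right cc))
  rcases hN.eq_bot_or_eq_top with e | e
  · have h1 : c ∈ center T := mem_center_iff.2 fun g => by
      have := hcN g
      rw [e, mem_bot, mul_inv_eq_one, mul_inv_eq_iff_eq_mul] at this
      exact this.symm
    rcases (inferInstance : (center T).Normal).eq_bot_or_eq_top with e' | e'
    · exact c1 (mem_bot.1 (e' ▸ h1))
    · exact hc ⟨⟨fun x y => mem_center_iff.1 (e' ▸ mem_top y : y ∈ center T) x⟩⟩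
  · rw [e, card_top] at hodd
    exact (Nat.not_even_iff_odd.2 hodd) (even_iff_two_dvd.2 (oc ▸ orderOf_dvd_natCard c))

theorem exists_inv (h : ¬ Group.IsSolvable T) : ∃ t : T, t ≠ 1 ∧ t * t = 1 := by
  have : Fact (Nat.Prime 2) := ⟨Nat.prime_two⟩
  obtain ⟨t, ht⟩ := exists_prime_orderOf_dvd_card' (G := T) 2
    (even_iff_two_dvd.1 (Nat.not_odd_iff_even.1 fun ho => h (S0205.result ho)))
  refine ⟨t, fun e => by simp [e] at ht, ?_⟩
  rw [← pow_two, ← ht, pow_orderOf_eq_one]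

end Inv

variable {H V : Type*} [Group H] [Finite H] [CommGroup V] [Finite V] [MulDistribMulAction H V]

/-- All stabilizers of non-trivial vectors are maximal and core-free. -/
structure Ext (H V : Type*) [Group H] [CommGroup V] [MulDistribMulAction H V] : Prop where
  nt : Nontrivial V
  max : ∀ v : V, v ≠ 1 → IsCoatom (stabilizer H v)
  core : ∀ v : V, v ≠ 1 → ∀ K : Subgroup H, K.Normal → K ≤ stabilizer H v → K = ⊥

omit [Finite H] [Finite V] in
theorem Ext.orb (h : Ext H V) {v : V} (hv : v ≠ 1) :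
    FaithfulSMul H (orbit H v) ∧ IsPreprimitive H (orbit H v) := by
  have e : stabilizer H (⟨v, mem_orbit_self v⟩ : orbit H v) = stabilizer H v := by
    ext g
    simp only [mem_stabilizer_iff, Subtype.ext_iff, orbit.coe_smul]
  constructor
  · have h1 := h.core v hv (toPermHom H (orbit H v)).ker inferInstance fun g hg => by
      rw [← e]
      exact congrArg (fun σ : Equiv.Perm (orbit H v) => σ ⟨v, mem_orbit_self v⟩) hg
    refine ⟨fun {a b} hab => ?_⟩
    exact (MonoidHom.ker_eq_bot_iff _).1 h1 (Equiv.ext hab)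
  · obtain ⟨g, hg⟩ : ∃ g, g ∉ stabilizer H v := by
      by_contra c
      push Not at c
      exact (h.max v hv).1 (eq_top_iff.2 fun g _ => c g)
    have : Nontrivial (orbit H v) :=
      ⟨⟨⟨g • v, mem_orbit v g⟩, ⟨v, mem_orbit_self v⟩, fun c => hg (congrArg Subtype.val c)⟩⟩
    rw [← isCoatom_stabilizer_iff_preprimitive H (⟨v, mem_orbit_self v⟩ : orbit H v), e]
    exact h.max v hv

omit [Finite H] [Finite V] in
theorem Ext.moves (h : Ext H V) {t : H} (ht : t ≠ 1) : ∃ m : V, t • m ≠ m := by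
  by_contra c
  push Not at c
  have := h.nt
  obtain ⟨v, hv⟩ := exists_ne (1 : V)
  have h1 := h.core v hv (toPermHom H V).ker inferInstance fun g hg =>
    congrArg (fun σ : Equiv.Perm V => σ v) hg
  exact ht (mem_bot.1 (h1 ▸ (show t ∈ (toPermHom H V).ker from Equiv.ext c)))

omit [Finite V] in
theorem Ext.even (h : Ext H V) (hs : ¬ Group.IsSolvable H) : Even (Nat.card V) := by
  by_contra hodd
  obtain ⟨t, t1, tt⟩ := exists_inv hs
  obtain ⟨m, hm⟩ := h.moves t1
  have hn : t • m * m⁻¹ ≠ 1 := fun e => hm (mul_inv_eq_one.1 e)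
  have h1 : t • (t • m * m⁻¹) = (t • m * m⁻¹)⁻¹ := by
    rw [smul_mul', smul_inv', smul_smul, tt, one_smul, mul_inv_rev, inv_inv]
  generalize t • m * m⁻¹ = n at hn h1
  have h2 : t ∉ stabilizer H n := fun c => by
    have : Fact (Nat.Prime 2) := ⟨Nat.prime_two⟩
    have h3 : orderOf n = 2 := orderOf_eq_prime
      (by rw [pow_two]; exact mul_eq_one_iff_eq_inv.2 ((mem_stabilizer_iff.1 c).symm.trans h1)) hn
    exact hodd (even_iff_two_dvd.2 (h3 ▸ orderOf_dvd_natCard n))
  have ti : t⁻¹ = t := inv_eq_of_mul_eq_one_right tt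
  have h3 : t ∈ normalizer (stabilizer H n : Set H) := by
    refine H49.mem_norm_of_cj_le fun g hg => ?_
    obtain ⟨y, hy, rfl⟩ := H49.mem_cj'.1 hg
    rw [mem_stabilizer_iff] at hy ⊢
    rw [ti, mul_smul, mul_smul, h1, smul_inv', hy, smul_inv', h1, inv_inv]
  have h4 := (h.max n hn).2 _ (lt_of_le_of_ne le_normalizer fun e => h2 (e ▸ h3))
  have h5 := h.core n hn _ (normalizer_eq_top_iff.1 h4) le_rfl
  have h6 := (h.max n hn).2 (zpowers t) (by rw [h5, bot_lt_iff_ne_bot]; simpa using t1)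
  have : IsCyclic H := isCyclic_iff_exists_zpowers_eq_top.2 ⟨t, h6⟩
  exact hs (Group.isSolvable_of_comm fun a b => (IsCyclic.commGroup (α := H)).mul_comm a b)

omit [Finite H] [Finite V] in
theorem Ext.fixed (h : Ext H V) (h2 : ∀ v : V, v * v = 1) {s : H} (ss : s * s = 1) :
    ∃ v : V, v ≠ 1 ∧ s • v = v := by
  have := h.nt
  obtain ⟨v, hv⟩ := exists_ne (1 : V)
  by_cases c : s • v = v
  · exact ⟨v, hv, c⟩
  · refine ⟨v * s • v, fun e => c ?_, by rw [smul_mul', smul_smul, ss, one_smul, mul_comm]⟩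
    exact mul_left_cancel (e.trans (h2 v).symm)

/-- `M_v` has product type along the factor `T`. -/
def PT (M T : Subgroup H) (v : V) : Prop :=
  ∀ t ∈ T, ∀ c ∈ M, (∀ s ∈ T, c * s = s * c) → (t * c) • v = v → t • v = v

variable {M T T' : Subgroup H}

omit [Finite H] [Finite V] in
theorem Ext.fixT (h : Ext H V) (hM : H77.MinNormal M) (hT : H77.Factor M T) {v : V}
    (hv : ∀ t ∈ T, t • v = v) : v = 1 := by
  by_contra c
  obtain ⟨h1, h2⟩ := h.orb c
  exact hT.not_le_stabilizer h2 hM (⟨v, mem_orbit_self v⟩ : orbit H v)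
    fun t ht => Subtype.ext (hv t ht)

omit [Finite V] in
theorem Ext.fixInv (h : Ext H V) (hM : H77.MinNormal M) (hc : ¬ IsMulCommutative M)
    (hT : H77.Factor M T) {v : V} (hv : ∀ t ∈ T, t * t = 1 → t • v = v) : v = 1 := by
  have := hT.simple hM
  obtain ⟨t, t1, tt⟩ := exists_inv (T := T) fun hs =>
    hT.not_comm hM hc ⟨⟨IsSimpleGroup.comm_iff_isSolvable.mpr hs⟩⟩
  let U : Subgroup H :=
    { carrier := {u | u ∈ T ∧ ∀ g ∈ T, (g * u * g⁻¹) • v = v}
      one_mem' := ⟨one_mem _, fun g _ => by simp⟩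
      mul_mem' := fun {a b} ha hb => ⟨mul_mem ha.1 hb.1, fun g hg => by
        rw [show g * (a * b) * g⁻¹ = g * a * g⁻¹ * (g * b * g⁻¹) by group, mul_smul, hb.2 g hg,
          ha.2 g hg]⟩
      inv_mem' := fun {a} ha => ⟨inv_mem ha.1, fun g hg => by
        rw [show g * a⁻¹ * g⁻¹ = (g * a * g⁻¹)⁻¹ by group, inv_smul_eq_iff, ha.2 g hg]⟩ }
  rcases hT.min' hM U (fun u hu => hu.1) (fun g hg u hu =>
    ⟨mul_mem (mul_mem hg hu.1) (inv_mem hg), fun k hk => by
      rw [show k * (g * u * g⁻¹) * k⁻¹ = k * g * u * (k * g)⁻¹ by group]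
      exact hu.2 _ (mul_mem hk hg)⟩) with e | e
  · have tt' : (t : H) * t = 1 := congrArg Subtype.val tt
    have : (t : H) ∈ U := ⟨t.2, fun g hg => hv _ (mul_mem (mul_mem hg t.2) (inv_mem hg)) (by
      rw [show g * (t : H) * g⁻¹ * (g * t * g⁻¹) = g * (t * t) * g⁻¹ by group, tt']; group)⟩
    exact absurd (Subtype.ext (mem_bot.1 (e ▸ this))) t1
  · exact h.fixT hM hT fun t ht => by simpa using (e.symm ▸ ht : t ∈ U).2 1 (one_mem _)

omit [Finite H] [Finite V] in
theorem Ext.dich (h : Ext H V) (hM : H77.MinNormal M) (hc : ¬ IsMulCommutative M)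
    (hT : H77.Factor M T) {v : V} (hv : v ≠ 1) (hP : ¬ PT M T v) :
    (∀ t ∈ T, ∃ c ∈ M, (∀ s ∈ T, c * s = s * c) ∧ (t * c) • v = v) ∧
      ∀ t ∈ T, t • v = v → t = 1 := by
  obtain ⟨h1, h2⟩ := h.orb hv
  rcases H77.projStab_eq_or_le h2 hM hc hT (⟨v, mem_orbit_self v⟩ : orbit H v) with e | e
  · have key : ∀ t ∈ T, ∃ c ∈ M, (∀ s ∈ T, c * s = s * c) ∧ (t * c) • v = v := fun t ht => by
      obtain ⟨-, c, h3, h4, h5⟩ := H77.mem_projStab.1 (e.symm ▸ ht)
      exact ⟨c, h3, h4, congrArg Subtype.val h5⟩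
    refine ⟨key, ?_⟩
    rcases hT.min' hM (T ⊓ stabilizer H v) inf_le_left (fun g hg u hu => by
      refine mem_inf.2 ⟨mul_mem (mul_mem hg hu.1) (T.inv_mem hg), ?_⟩
      obtain ⟨c, -, h4, h5⟩ := key g hg
      have h6 : g * u * g⁻¹ = g * c * u * (g * c)⁻¹ := by
        rw [mul_assoc g c u, h4 u hu.1]; group
      rw [h6]
      have h7 : g * c ∈ stabilizer H v := h5
      exact mul_mem (mul_mem h7 (mem_inf.1 hu).2) (inv_mem h7)) with e' | e'
    · exact fun t ht h3 => mem_bot.1 (e' ▸ mem_inf.2 ⟨ht, h3⟩)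
    · exact absurd (h.fixT hM hT fun t ht => (e'.symm ▸ ht : t ∈ T ⊓ stabilizer H v).2) hv
  · exact absurd (fun t ht c h3 h4 h5 =>
      congrArg Subtype.val (e (H77.mem_projStab.2 ⟨ht, c, h3, h4, Subtype.ext h5⟩))) hP

omit [Finite V] in
theorem Ext.key (h : Ext H V) (h2 : ∀ v : V, v * v = 1) (hM : H77.MinNormal M)
    (hc : ¬ IsMulCommutative M) (hT' : H77.Factor M T')
    (hcm : ∀ t ∈ T, ∀ u ∈ T', t * u = u * t) {v : V} (hP : PT M T v) {a : H} (ha : a ∈ T)
    (aa : a * a = 1) (hav : a • v ≠ v) :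
    ∃ w : V, w ≠ 1 ∧ ¬ PT M T w ∧ ∀ r ∈ T, r • v = v → (a * r * a) • v = v → r • w = w := by
  by_contra c
  push Not at c
  have inv : ∀ x y : V, x * y = 1 → y = x := fun x y e => mul_left_cancel (e.trans (h2 x).symm)
  refine hav (inv _ _ (h.fixInv hM hc hT' fun b hb bb => ?_))
  have hb' : ∀ s ∈ T, b * s = s * b := fun s hs => (hcm s hs b hb).symm
  have w1 : v * (a * b) • v ≠ 1 := fun e => hav (hP a ha b (hT'.le hb) hb' (inv _ _ e))
  have hw : PT M T (v * (a * b) • v) := by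
    by_contra hn
    obtain ⟨r, hr, h3, h4, h5⟩ := c _ w1 hn
    apply h5
    have h6 : r * (a * b) = a * b * (a * r * a) := by
      rw [mul_assoc a b, hb' _ (mul_mem (mul_mem ha hr) ha)]
      calc r * (a * b) = (a * a) * r * (a * b) := by rw [aa, one_mul]
        _ = _ := by group
    rw [smul_mul', h3, smul_smul, h6, mul_smul (a * b), h4]
  have h3 : a * b * (a * b) = 1 := by
    rw [mul_assoc, ← mul_assoc b, hb' a ha, mul_assoc, bb, mul_one, aa]
  have h4 := hw a ha b (hT'.le hb) hb' (by rw [smul_mul', smul_smul, h3, one_smul, mul_comm])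
  rw [smul_mul', smul_smul, ← mul_assoc, aa, one_mul] at h4
  rw [smul_mul', smul_smul, hb' a ha]
  calc b • v * (a * b) • v = b • v * (a * b) • v * (a • v * a • v) * (v * v) := by
        rw [h2, h2, mul_one, mul_one]
    _ = (a • v * b • v) * (v * (a * b) • v) * (v * a • v) := by ac_rfl
    _ = v * a • v := by rw [h4, h2, one_mul]

omit [Finite V] in
theorem Ext.factor_eq (h : Ext H V) (h2 : ∀ v : V, v * v = 1) (hM : H77.MinNormal M)
    (hc : ¬ IsMulCommutative M) (hT : H77.Factor M T) : T = M := by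
  by_contra hne
  obtain ⟨g, hg⟩ := hT.exists_cj_ne hM hne
  have hT' := hT.conj hM.normal g
  have hcm := (hT.eq_or_comm hT').resolve_left hg.symm
  have := hT.simple hM
  have hcT := hT.not_comm hM hc
  obtain ⟨c, c1, cc⟩ := exists_inv (T := T) fun hs =>
    hcT ⟨⟨IsSimpleGroup.comm_iff_isSolvable.mpr hs⟩⟩
  have cc' : (c : H) * c = 1 := congrArg Subtype.val cc
  have c1' : (c : H) ≠ 1 := fun e => c1 (Subtype.ext e)
  have pt : ∀ v : V, v ≠ 1 → (c : H) • v = v → PT M T v := fun v hv hcv => by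
    by_contra hn
    exact c1' ((h.dich hM hc hT hv hn).2 c c.2 hcv)
  obtain ⟨v, hv, hcv⟩ := h.fixed h2 cc'
  obtain ⟨a, ha, aa, hav⟩ : ∃ a ∈ T, a * a = 1 ∧ a • v ≠ v := by
    by_contra hn
    push Not at hn
    exact hv (h.fixInv hM hc hT hn)
  obtain ⟨w, hw, hnw, -⟩ := h.key h2 hM hc hT' hcm (pt v hv hcv) ha aa hav
  obtain ⟨hS, hS'⟩ := h.dich hM hc hT hw hnw
  have u1 : w * (c : H) • w ≠ 1 := fun e =>
    c1' (hS' c c.2 (mul_left_cancel (e.trans (h2 w).symm)))
  have hcu : (c : H) • (w * (c : H) • w) = w * (c : H) • w := by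
    rw [smul_mul', smul_smul, cc', one_smul, mul_comm]
  have hC : ∀ x ∈ T, x * c = c * x → x • (w * (c : H) • w) = w * (c : H) • w := fun x hx e => by
    obtain ⟨y, hy, h3, h4⟩ := hS x hx
    refine pt _ u1 hcu x hx y hy h3 ?_
    rw [smul_mul', h4, smul_smul, mul_assoc, h3 c c.2, ← mul_assoc, e, mul_assoc, mul_smul, h4]
  generalize w * (c : H) • w = u at u1 hcu hC
  have hPu := pt u u1 hcu
  refine inv_lemma hcT ((stabilizer H u).subgroupOf T) (fun e => u1 (h.fixT hM hT fun t ht =>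
    (e.symm ▸ mem_top _ : (⟨t, ht⟩ : T) ∈ (stabilizer H u).subgroupOf T))) c1 cc
    (fun x e => hC x x.2 (congrArg Subtype.val e)) (fun b bb hb r hr hr' => ?_) fun k hk => ?_
  · obtain ⟨w', h3, h4, h5⟩ := h.key h2 hM hc hT' hcm hPu b.2 (congrArg Subtype.val bb) hb
    exact Subtype.ext ((h.dich hM hc hT h3 h4).2 r r.2 (h5 r r.2 hr hr'))
  · let J : Set H := {n | n ∈ M ∧ n * n = 1 ∧ n • u = u}
    have nrm : ∀ x : H, (∀ n ∈ J, (x * n * x⁻¹) • u = u) → x ∈ normalizer (closure J : Set H) :=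
      fun x hx => H49.mem_norm_of_cj_le (by
        rw [H49.cj_le_iff, closure_le]
        intro n hn
        refine H49.mem_cj.2 (subset_closure ⟨?_, ?_, ?_⟩)
        · simpa using hM.normal.conj_mem n hn.1 x
        · rw [show x⁻¹⁻¹ * n * x⁻¹ * (x⁻¹⁻¹ * n * x⁻¹) = x * (n * n) * x⁻¹ by group, hn.2.1]; group
        · simpa using hx n hn)
    have h3 : stabilizer H u ≤ normalizer (closure J : Set H) := fun x hx => nrm x fun n hn =>
      mul_mem (mul_mem hx (show n ∈ stabilizer H u from hn.2.2)) (inv_mem hx)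
    have h4 : (k : H) ∈ normalizer (closure J : Set H) := nrm k fun n hn => by
      obtain ⟨t, ht, y, hy, h5, rfl⟩ := hT.decomp hM hn.1
      have h6 := hPu t ht y hy h5 hn.2.2
      have h7 : y • u = u := by
        have := hn.2.2
        rwa [← h5 t ht, mul_smul, h6] at this
      have h8 : t * t = 1 := by
        refine hT.comp_unique hM hc (mul_mem ht ht) (one_mem _) (c := y * y) (c' := 1)
          (fun s hs => by rw [mul_assoc, h5 s hs, ← mul_assoc, h5 s hs, mul_assoc]) (by simp) ?_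
        rw [mul_one, ← hn.2.1, mul_assoc, mul_assoc, ← mul_assoc y t, h5 t ht]
        group
      have h9 : ((k : H) * t * (k : H)⁻¹) • u = u := hk ⟨t, ht⟩ h6 (Subtype.ext h8)
      rw [mul_assoc, mul_assoc, h5 _ (inv_mem k.2), ← mul_assoc, ← mul_assoc, mul_smul, h7, h9]
    rcases h3.eq_or_lt with e | e
    · exact (e.symm ▸ h4 : (k : H) ∈ stabilizer H u)
    · have h5 := h.core u u1 _ (normalizer_eq_top_iff.1 ((h.max u u1).2 _ e))
        ((closure_le _).2 fun n hn => hn.2.2)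
      exact absurd (mem_bot.1 (h5 ▸ subset_closure ⟨hT.le c.2, cc', hcu⟩)) c1'

theorem Ext.almost_simple (h : Ext H V) (h2 : ∀ v : V, v * v = 1) (hs : ¬ Group.IsSolvable H) :
    ∃ T : Subgroup H, T.Normal ∧ IsSimpleGroup T ∧ ¬ IsMulCommutative T ∧
      centralizer (T : Set H) = ⊥ := by
  have : Nontrivial H := by
    obtain ⟨t, t1, -⟩ := exists_inv hs
    exact ⟨t, 1, t1⟩
  obtain ⟨M, hn, hne, hmin⟩ := H2.exists_minimal_normal (G := H)
  have hM : H77.MinNormal M := ⟨hn, hne, hmin⟩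
  have cent : ∀ K : Subgroup H, K.Normal → ∀ s ∈ K, s ≠ 1 → ∀ v : V, v ≠ 1 → s • v = v →
      centralizer (K : Set H) = ⊥ := fun K hK s hs s1 v hv e => by
    obtain ⟨h3, h4⟩ := h.orb hv
    exact H77.centralizer_eq_bot_of_fixed h4 hK (α := (⟨v, mem_orbit_self v⟩ : orbit H v)) hs s1
      (Subtype.ext e)
  have hc : ¬ IsMulCommutative M := fun hc => by
    -- `C = C(M)` acts without fixed points
    have hMC : M ≤ centralizer (M : Set H) := H49.abelian_iff.1 hc
    have := h.nt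
    have fpf : ∀ s ∈ centralizer (M : Set H), s ≠ 1 → ∀ v : V, s • v = v → v = 1 := by
      intro s hs s1 v e
      by_contra hv
      exact hne (le_bot_iff.1 (cent _ inferInstance s hs s1 v hv e ▸ H49.cent_symm le_rfl))
    have hcyc : IsCyclic M := (H24.fpf_of_mulAut ((MulDistribMulAction.toMulAut H V).comp M.subtype)
      fun g hg v e => fpf g (hMC g.2) (fun c => hg (Subtype.ext c)) v e).isCyclic_of_comm
    have hsC : Group.IsSolvable (centralizer (M : Set H)) := by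
      by_contra hn
      obtain ⟨t, t1, tt⟩ := exists_inv hn
      obtain ⟨v, hv, e⟩ := h.fixed h2 (s := (t : H)) (congrArg Subtype.val tt)
      exact hv (fpf t t.2 (fun c => t1 (Subtype.ext c)) v e)
    have hsA : Group.IsSolvable (MulAut M) :=
      Group.isSolvable_of_comm fun a b => (IsCyclic.mulAutMulEquiv M).injective (by
        rw [map_mul, map_mul, mul_comm])
    refine hs (Group.isSolvable_of_ker_le_range (centralizer (M : Set H)).subtype
      (MulAut.conjNormal (H := M)) fun g hg => ?_)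
    rw [range_subtype, mem_centralizer_iff]
    intro m hm
    have := congrArg (fun σ : MulAut M => (σ ⟨m, hm⟩ : H)) hg
    exact (mul_inv_eq_iff_eq_mul.1 this).symm
  obtain ⟨T, hT⟩ := H77.exists_factor hne
  have e := h.factor_eq h2 hM hc hT
  subst e
  have hsim := hT.simple hM
  obtain ⟨t, t1, tt⟩ := exists_inv (T := T) fun hs =>
    hc ⟨⟨IsSimpleGroup.comm_iff_isSolvable.mpr hs⟩⟩
  obtain ⟨v, hv, e⟩ := h.fixed h2 (s := (t : H)) (congrArg Subtype.val tt)
  exact ⟨T, hn, hsim, hc, cent T hn t t.2 (fun c => t1 (Subtype.ext c)) v hv e⟩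

end Cfsg.Agent.H27.EP
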